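import Mathlib

/-! Acyclicity of `X ⊗ Q` and directed unions. -/

set_option autoImplicit false
set_option backward.isDefEq.respectTransparency false
set_option backward.isDefEq.respectTransparency.types false

universe u

open TensorProduct CategoryTheory

namespace H1PerfTor

variable {A : Type u} [CommRing A] {Y : ModuleCat.{u} A} (Q : ProjectiveResolution Y)

/-- The differential. -/
noncomputable abbrev dQ (p : ℕ) : Q.complex.X (p + 1) →ₗ[A] Q.complex.X p := (Q.complex.d (p + 1) p).hom

/-- `X ⊗ Q` is exact in positive degrees. -/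
def Good (X : Type u) [AddCommGroup X] [Module A X] : Prop :=
  ∀ p, Function.Exact ((dQ Q (p + 1)).lTensor X) ((dQ Q p).lTensor X)

instance flat_term (p : ℕ) : Module.Flat A (Q.complex.X p) := by
  haveI : Module.Projective A (Q.complex.X p) := (IsProjective.iff_projective _).2 (Q.projective p)
  infer_instance

theorem dQ_dQ (p : ℕ) : dQ Q p ∘ₗ dQ Q (p + 1) = 0 := by
  rw [← ModuleCat.hom_comp, Q.complex.d_comp_d]; rfl

/-- The augmentation. -/
noncomputable abbrev aug : Q.complex.X 0 →ₗ[A] Y := (Q.π.f 0).hom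

theorem aug_surjective : Function.Surjective (aug Q) :=
  (ModuleCat.epi_iff_surjective (Q.π.f 0)).1 inferInstance

theorem aug_exact (X : Type u) [AddCommGroup X] [Module A X] :
    Function.Exact ((dQ Q 0).lTensor X) ((aug Q).lTensor X) :=
  lTensor_exact X ((ShortComplex.ShortExact.moduleCat_exact_iff_function_exact _).1 Q.exact₀) (aug_surjective Q)

variable {X : Type u} [AddCommGroup X] [Module A X]

theorem good_of_flat [Module.Flat A X] : Good Q X := fun p =>
  Module.Flat.lTensor_exact X ((ShortComplex.ShortExact.moduleCat_exact_iff_function_exact _).1 (Q.exact_succ p))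

theorem comm_apply {X' : Type u} [AddCommGroup X'] [Module A X'] {M N : Type u} [AddCommGroup M] [Module A M]
    [AddCommGroup N] [Module A N] (f : X →ₗ[A] X') (g : M →ₗ[A] N) (z : X ⊗[A] M) :
    f.rTensor N (g.lTensor X z) = g.lTensor X' (f.rTensor M z) := by
  rw [← LinearMap.comp_apply, ← LinearMap.comp_apply, LinearMap.rTensor_comp_lTensor, LinearMap.lTensor_comp_rTensor]

/-- A directed union up to torsion. -/
structure Colim (ι : Type u) [Preorder ι] (Xi : ι → Type u) [∀ i, AddCommGroup (Xi i)] [∀ i, Module A (Xi i)]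
    (X : Type u) [AddCommGroup X] [Module A X] where
  u : ∀ i, Xi i →ₗ[A] X
  v : ∀ i j, i ≤ j → (Xi i →ₗ[A] Xi j)
  comp : ∀ i j h, u j ∘ₗ v i j h = u i
  trans : ∀ i j k h h', v j k h' ∘ₗ v i j h = v i k (le_trans h h')
  surj : ∀ x, ∃ i, x ∈ LinearMap.range (u i)
  kill : ∀ i x, u i x = 0 → ∃ j h, v i j h x = 0

variable {ι : Type u} [Preorder ι] [IsDirectedOrder ι] [Nonempty ι] {Xi : ι → Type u} [∀ i, AddCommGroup (Xi i)]
  [∀ i, Module A (Xi i)] (S : Colim (A := A) ι Xi X) (M : Type u) [AddCommGroup M] [Module A M]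

include S in
theorem Colim.rTensor_surj (z : X ⊗[A] M) : ∃ i, z ∈ LinearMap.range ((S.u i).rTensor M) := by
  induction z using TensorProduct.induction_on with
  | zero => exact ⟨Classical.arbitrary ι, zero_mem _⟩
  | tmul y x =>
    obtain ⟨i, w, rfl⟩ := S.surj y
    exact ⟨i, w ⊗ₜ[A] x, rfl⟩
  | add a b ha hb =>
    obtain ⟨i, x, rfl⟩ := ha; obtain ⟨j, y, rfl⟩ := hb
    obtain ⟨k, hik, hjk⟩ := exists_ge_ge i j
    exact ⟨k, add_mem ⟨(S.v i k hik).rTensor M x, by rw [← LinearMap.comp_apply, ← LinearMap.rTensor_comp, S.comp]⟩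
      ⟨(S.v j k hjk).rTensor M y, by rw [← LinearMap.comp_apply, ← LinearMap.rTensor_comp, S.comp]⟩⟩

theorem Colim.rTensor_kill [Module.Flat A M] (i : ι) (z : Xi i ⊗[A] M) (hz : (S.u i).rTensor M z = 0) :
    ∃ j h, (S.v i j h).rTensor M z = 0 := by
  obtain ⟨w, rfl⟩ := (Module.Flat.rTensor_exact M (S.u i).exact_subtype_ker_map z).1 hz
  clear hz
  induction w using TensorProduct.induction_on with
  | zero => exact ⟨i, le_rfl, by rw [map_zero, map_zero]⟩
  | tmul x m =>
    obtain ⟨j, h, hj⟩ := S.kill i x x.2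
    exact ⟨j, h, by rw [LinearMap.rTensor_tmul, Submodule.coe_subtype, LinearMap.rTensor_tmul, hj, zero_tmul]⟩
  | add a b ha hb =>
    obtain ⟨j, h, hj⟩ := ha; obtain ⟨j', h', hj'⟩ := hb
    obtain ⟨k, hjk, hjk'⟩ := exists_ge_ge j j'
    refine ⟨k, h.trans hjk, ?_⟩
    rw [map_add, map_add]
    conv_lhs =>
      arg 1
      rw [← S.trans i j k h hjk, LinearMap.rTensor_comp, LinearMap.comp_apply, hj, map_zero]
    rw [zero_add, ← S.trans i j' k h' hjk', LinearMap.rTensor_comp, LinearMap.comp_apply, hj', map_zero]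

include S in
/-- Directed unions of good modules are good. -/
theorem good_of_colim (hXi : ∀ i, Good Q (Xi i)) : Good Q X := fun p z => by
  constructor
  · intro hz
    obtain ⟨i, w, rfl⟩ := S.rTensor_surj _ z
    rw [← comm_apply] at hz
    obtain ⟨j, h, hj⟩ := S.rTensor_kill _ i _ hz
    rw [comm_apply] at hj
    obtain ⟨y, hy⟩ := (hXi j p _).1 hj
    refine ⟨(S.u j).rTensor _ y, ?_⟩
    rw [← comm_apply, hy, ← LinearMap.comp_apply, ← LinearMap.rTensor_comp, S.comp]
  · rintro ⟨y, rfl⟩
    rw [← LinearMap.comp_apply, ← LinearMap.lTensor_comp, dQ_dQ, LinearMap.lTensor_zero, LinearMap.zero_apply]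

/-- The cokernel of a map with injective tensor is good. -/
theorem good_coker {X₁ X₂ : Type u} [AddCommGroup X₁] [Module A X₁] [AddCommGroup X₂] [Module A X₂]
    (i : X₁ →ₗ[A] X₂) (π : X₂ →ₗ[A] X) (hi : Function.Injective i) (hπ : Function.Surjective π)
    (hex : Function.Exact i π) (h1 : Good Q X₁) (h2 : Good Q X₂) (hY : Function.Injective (i.rTensor Y)) :
    Good Q X := fun p z => by
  constructor
  · intro hz
    obtain ⟨y, rfl⟩ := LinearMap.rTensor_surjective (Q.complex.X (p + 1)) hπ z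
    rw [← comm_apply] at hz
    obtain ⟨x, hx⟩ := (rTensor_exact (Q.complex.X p) hex hπ _).1 hz
    obtain ⟨w, hw⟩ : ∃ w, (dQ Q p).lTensor X₁ w = x := by
      cases p with
      | zero =>
        refine (aug_exact Q X₁ x).1 (hY ?_)
        rw [map_zero, comm_apply i, hx, (aug_exact Q X₂).apply_apply_eq_zero]
      | succ p =>
        refine (h1 p x).1 (Module.Flat.rTensor_preserves_injective_linearMap (M := Q.complex.X p) i hi ?_)
        rw [map_zero, comm_apply i, hx, ← LinearMap.comp_apply, ← LinearMap.lTensor_comp, dQ_dQ, LinearMap.lTensor_zero,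
          LinearMap.zero_apply]
    obtain ⟨s, hs⟩ := (h2 p (y - i.rTensor _ w)).1 (by rw [map_sub, ← comm_apply, hw, hx, sub_self])
    refine ⟨π.rTensor _ s, ?_⟩
    rw [← comm_apply, hs, map_sub, ← LinearMap.comp_apply, ← LinearMap.rTensor_comp, hex.linearMap_comp_eq_zero,
      LinearMap.rTensor_zero, LinearMap.zero_apply, sub_zero]
  · rintro ⟨y, rfl⟩
    rw [← LinearMap.comp_apply, ← LinearMap.lTensor_comp, dQ_dQ, LinearMap.lTensor_zero, LinearMap.zero_apply]

end H1PerfTor
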