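import Groth.Agent.H1PerfTor.Perfect
import Groth.Agent.PerfLib.Flat
import Mathlib.FieldTheory.PerfectClosure

/-! Tor independence of perfect rings. -/

set_option autoImplicit false
set_option backward.isDefEq.respectTransparency false
set_option linter.style.haveILetI false
set_option maxRecDepth 4000

universe u

open TensorProduct CategoryTheory

namespace H1PerfTor

variable (p : ℕ) [Fact p.Prime] {A C : Type u} [CommRing A] [CharP A p] [CommRing C] [Algebra A C]
  (Q : ProjectiveResolution (ModuleCat.of A C))

/-- One radical step. -/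
theorem good_step (hA : Function.Surjective fun a : A => a ^ p) (hC : Function.Bijective fun a : C => a ^ p)
    {R R' : Type u} [CommRing R] [Algebra A R] [IsReduced R] [CommRing R'] [Algebra A R']
    (hR : Function.Surjective fun a : R => a ^ p) (π : R →ₐ[A] R') (hπ : Function.Surjective π)
    (f : R) (hker : RingHom.ker π = (Ideal.span {f}).radical) (hgood : Good Q R) : Good Q R' := by
  have hp0 : p ≠ 0 := (Fact.out : p.Prime).ne_zero
  haveI := isReduced_tensor p (B := R) (C := C) hA (bijective_pow p (A := A) hR) hC
  choose root hroot using hR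
  replace hroot : ∀ b, root b ^ p = b := hroot
  let g : ℕ → R := fun n => root^[n] f
  have hg : ∀ n, g (n + 1) ^ p = g n := fun n => by
    simp only [g, Function.iterate_succ_apply']; exact hroot _
  have hgf : ∀ n, g n ^ p ^ n = f := fun n => by
    induction n with
    | zero => simp [g]
    | succ n ih => rw [pow_succ', pow_mul, hg, ih]
  have hge : ∀ n k, g n = g (n + k) ^ p ^ k := fun n k => by
    induction k with
    | zero => simp
    | succ k ih => rw [ih, pow_succ', pow_mul, ← Nat.add_assoc, hg]
  let K : Submodule A R := LinearMap.ker π.toLinearMap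
  have hmem : ∀ x, x ∈ K ↔ ∃ n r, x = g n * r := fun x => by
    rw [show x ∈ K ↔ x ∈ RingHom.ker π from Iff.rfl, hker]
    constructor
    · rintro ⟨N, hN⟩
      obtain ⟨c, hc⟩ := Ideal.mem_span_singleton'.1 hN
      obtain ⟨n, hn⟩ : ∃ n, N ≤ p ^ n := ⟨N, (Nat.lt_pow_self (Fact.out : p.Prime).one_lt).le⟩
      refine ⟨n, root^[n] (x ^ (p ^ n - N) * c), ?_⟩
      have hr : ∀ m z, (root^[m] z) ^ p ^ m = z := fun m => by
        induction m with
        | zero => intro z; simp
        | succ m ih => intro z; rw [Function.iterate_succ_apply', pow_succ', pow_mul, hroot, ih]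
      have hinj : ∀ (m : ℕ) (y z : R), y ^ p ^ m = z ^ p ^ m → y = z := fun m => by
        induction m with
        | zero => intro y z h; simpa using h
        | succ m ih =>
          intro y z h
          rw [pow_succ, pow_mul, pow_mul] at h
          exact ih _ _ ((bijective_pow p (A := A) (fun z => ⟨root z, hroot z⟩)).1 h)
      refine hinj n _ _ ?_
      rw [mul_pow, hgf, hr, mul_comm f, mul_assoc, hc, ← pow_add, Nat.sub_add_cancel hn]
    · rintro ⟨n, r, rfl⟩
      exact Ideal.mul_mem_right _ _ ⟨p ^ n, by rw [hgf]; exact Ideal.mem_span_singleton_self f⟩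
  let S : Colim (A := A) (ULift.{u} ℕ) (fun _ => R) K :=
    { u := fun n => (LinearMap.mulLeft A (g n.down)).codRestrict K fun x => (hmem _).2 ⟨n.down, x, rfl⟩
      v := fun i j _ => if i = j then LinearMap.id else LinearMap.mulLeft A (g j.down ^ (p ^ (j.down - i.down) - 1))
      comp := fun i j h => by
        refine LinearMap.ext fun x => Subtype.ext ?_
        split_ifs with hij
        · subst hij; rfl
        · obtain ⟨k, hk⟩ := Nat.exists_eq_add_of_le (show i.down ≤ j.down from h)
          show g j.down * (g j.down ^ (p ^ (j.down - i.down) - 1) * x) = g i.down * x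
          rw [hge i.down k, ← hk, show j.down - i.down = k by omega, ← mul_assoc, ← pow_succ',
            Nat.sub_add_cancel (Nat.one_le_pow _ _ (Fact.out : p.Prime).pos)]
      trans := fun i j l h h' => by
        refine LinearMap.ext fun x => ?_
        rcases eq_or_ne i j with rfl | hij
        · simp
        rcases eq_or_ne j l with rfl | hjl
        · simp
        have hil : i ≠ l := fun e => hij (le_antisymm h (e ▸ h'))
        simp only [if_neg hij, if_neg hjl, if_neg hil, LinearMap.comp_apply, LinearMap.mulLeft_apply]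
        obtain ⟨k, hk⟩ := Nat.exists_eq_add_of_le (show i.down ≤ j.down from h)
        obtain ⟨m, hm⟩ := Nat.exists_eq_add_of_le (show j.down ≤ l.down from h')
        rw [show j.down - i.down = k by omega, show l.down - j.down = m by omega, show l.down - i.down = k + m by omega,
          hge j.down m, ← hm, ← mul_assoc, ← pow_mul, ← pow_add]
        congr 2
        have h1 : 1 ≤ p ^ k := Nat.one_le_pow _ _ (Fact.out : p.Prime).pos
        have h2 : 1 ≤ p ^ m := Nat.one_le_pow _ _ (Fact.out : p.Prime).pos
        have h3 : 1 ≤ p ^ (k + m) := Nat.one_le_pow _ _ (Fact.out : p.Prime).pos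
        zify [h1, h2, h3]
        push_cast [pow_add]
        ring
      surj := fun x => by
        obtain ⟨n, r, hr⟩ := (hmem _).1 x.2
        exact ⟨⟨n⟩, r, Subtype.ext hr.symm⟩
      kill := fun i x hx => by
        have hx' : g i.down * x = 0 := congrArg Subtype.val hx
        have h0 : g (i.down + 1) * x = 0 := by
          refine IsReduced.eq_zero _ ⟨p, ?_⟩
          rw [mul_pow, hg, ← Nat.sub_add_cancel (Fact.out : p.Prime).one_le, pow_succ', ← mul_assoc, hx', zero_mul]
        refine ⟨⟨i.down + 1⟩, show i.down ≤ i.down + 1 by omega, ?_⟩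
        rw [if_neg (fun e => by have := congrArg ULift.down e; simp at this), LinearMap.mulLeft_apply]
        simp only [Nat.add_sub_cancel_left, pow_one]
        rw [show p - 1 = (p - 2) + 1 by have := (Fact.out : p.Prime).two_le; omega, pow_succ, mul_assoc, h0, mul_zero] }
  refine good_coker Q K.subtype π.toLinearMap Subtype.val_injective hπ
    (LinearMap.exact_subtype_ker_map _) (good_of_colim Q S fun _ => hgood) hgood ?_
  refine (injective_iff_map_eq_zero _).2 fun z hz => ?_
  obtain ⟨i, w, rfl⟩ := S.rTensor_surj C z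
  have hmul : ∀ (c : R) (w : R ⊗[A] C), (LinearMap.mulLeft A c).rTensor C w = (c ⊗ₜ[A] (1 : C)) * w := fun c w => by
    induction w using TensorProduct.induction_on with
    | zero => simp
    | tmul a b => simp
    | add a b ha hb => rw [map_add, ha, hb, mul_add]
  have hG : (g (i.down + 1) ⊗ₜ[A] (1 : C)) ^ p = g i.down ⊗ₜ[A] (1 : C) := by
    rw [Algebra.TensorProduct.tmul_pow, one_pow, hg]
  have h0 : (g i.down ⊗ₜ[A] (1 : C)) * w = 0 := by
    rw [← hmul, ← hz]
    show _ = K.subtype.rTensor C ((S.u i).rTensor C w)
    rw [← LinearMap.comp_apply, ← LinearMap.rTensor_comp]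
    rfl
  have h1 : (g (i.down + 1) ⊗ₜ[A] (1 : C)) * w = 0 := by
    refine IsReduced.eq_zero _ ⟨p, ?_⟩
    rw [mul_pow, hG, ← Nat.sub_add_cancel (Fact.out : p.Prime).one_le, pow_succ', ← mul_assoc, h0, zero_mul]
  have hle : i ≤ (⟨i.down + 1⟩ : ULift.{u} ℕ) := show i.down ≤ i.down + 1 by omega
  rw [← S.comp i ⟨i.down + 1⟩ hle, LinearMap.rTensor_comp, LinearMap.comp_apply]
  show (S.u _).rTensor C ((if i = ⟨i.down + 1⟩ then LinearMap.id else LinearMap.mulLeft A _).rTensor C w) = 0
  rw [if_neg (fun e => by have := congrArg ULift.down e; simp at this), hmul]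
  simp only [Nat.add_sub_cancel_left, pow_one]
  rw [show ∀ k : ℕ, (g (i.down + 1) ^ k) ⊗ₜ[A] (1 : C) = (g (i.down + 1) ⊗ₜ[A] (1 : C)) ^ k from
      fun k => by rw [Algebra.TensorProduct.tmul_pow, one_pow],
    show p - 1 = (p - 2) + 1 by have := (Fact.out : p.Prime).two_le; omega, pow_succ, mul_assoc, h1, mul_zero, map_zero]

/-- Radicals of finitely generated ideals. -/
theorem good_quotient_radical (hA : Function.Surjective fun a : A => a ^ p) (hC : Function.Bijective fun a : C => a ^ p)
    {P : Type u} [CommRing P] [Algebra A P] [IsReduced P] (hP : Function.Surjective fun a : P => a ^ p)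
    [Module.Flat A P] (s : Finset P) : Good Q (P ⧸ (Ideal.span (s : Set P)).radical) := by
  classical
  induction s using Finset.induction with
  | empty =>
    have h : (Ideal.span ((∅ : Finset P) : Set P)).radical = (⊥ : Ideal P) := by
      refine le_antisymm (fun x ⟨n, hn⟩ => ?_) (fun x (hx : x = 0) => hx ▸ zero_mem _)
      show x = 0
      refine IsReduced.eq_zero x ⟨n, ?_⟩
      exact Submodule.span_induction (p := fun y _ => y = 0)
        (fun y hy => (Finset.notMem_empty y (Finset.mem_coe.1 hy)).elim) rfl
        (fun _ _ _ _ h1 h2 => by rw [h1, h2, add_zero]) (fun c _ _ h => by rw [h, smul_zero]) hn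
    haveI : Module.Flat A (P ⧸ (Ideal.span ((∅ : Finset P) : Set P)).radical) :=
      Module.Flat.of_linearEquiv ((Ideal.quotientEquivAlgOfEq A h).trans (AlgEquiv.quotientBot A P)).toLinearEquiv
    exact good_of_flat Q
  | insert f s _ ih =>
    set J := (Ideal.span (s : Set P)).radical
    set J' := (Ideal.span ((insert f s : Finset P) : Set P)).radical
    have hle : J ≤ J' := Ideal.radical_mono (Ideal.span_mono (Finset.coe_subset.2 (Finset.subset_insert f s)))
    haveI : IsReduced (P ⧸ J) := (Ideal.isRadical_iff_quotient_reduced J).1 (Ideal.radical_isRadical _)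
    refine good_step p Q hA hC (R := P ⧸ J) ?_ (Ideal.Quotient.factorₐ A hle) (Ideal.Quotient.factor_surjective hle)
      (Ideal.Quotient.mk J f) ?_ ih
    · intro x
      obtain ⟨y, rfl⟩ := Ideal.Quotient.mk_surjective x
      obtain ⟨z, rfl⟩ := hP y
      exact ⟨Ideal.Quotient.mk J z, (map_pow _ _ _).symm⟩
    · refine (Ideal.Quotient.factor_ker hle).trans ?_
      refine le_antisymm ?_ ?_
      · rw [Ideal.map_le_iff_le_comap, Ideal.comap_radical]
        refine Ideal.radical_mono (Ideal.span_le.2 fun x hx => ?_)
        rcases Finset.mem_insert.1 hx with rfl | hx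
        · exact Ideal.mem_span_singleton_self _
        · show Ideal.Quotient.mk J x ∈ Ideal.span {Ideal.Quotient.mk J f}
          rw [Ideal.Quotient.eq_zero_iff_mem.2 (Ideal.le_radical (Ideal.subset_span hx))]
          exact zero_mem _
      · rintro x ⟨n, hn⟩
        obtain ⟨y, rfl⟩ := Ideal.Quotient.mk_surjective x
        refine Ideal.mem_map_of_mem _ ((Ideal.radical_isRadical _) ⟨n, ?_⟩)
        obtain ⟨c, hc⟩ := Ideal.mem_span_singleton'.1 hn
        obtain ⟨c, rfl⟩ := Ideal.Quotient.mk_surjective c
        rw [← map_mul, ← map_pow, Ideal.Quotient.eq] at hc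
        rw [show y ^ n = c * f - (c * f - y ^ n) by ring]
        exact sub_mem (Ideal.mul_mem_left _ _ (Ideal.le_radical (Ideal.subset_span (Finset.mem_insert_self f s))))
          (hle hc)

/-- Perfect algebras are `Tor`-independent. -/
theorem good_of_perfect (hA : Function.Bijective fun a : A => a ^ p) (hC : Function.Bijective fun a : C => a ^ p)
    {B : Type u} [CommRing B] [Algebra A B] (hB : Function.Bijective fun a : B => a ^ p) : Good Q B := by
  classical
  rcases subsingleton_or_nontrivial B with hs | hs
  · exact good_of_flat Q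
  haveI : CharP B p := charP_of_nontrivial p (A := A) B
  haveI : PerfectRing B p := ⟨hB⟩
  haveI : PerfectRing A p := ⟨hA⟩
  let P0 := MvPolynomial B A
  let P := PerfectClosure P0 p
  let j : P0 →+* P := PerfectClosure.of P0 p
  let φ' : A →+* P := j.comp (algebraMap A P0)
  letI : Algebra A P := φ'.toAlgebra
  haveI : Module.Flat A P := by
    have h := Groth.Agent.PerfLib.flat_perfection p (φ := algebraMap A P0) (i := RingHom.id A) (j := j) (φ' := φ')
      (RingHom.flat_algebraMap_iff.2 inferInstance) (RingHom.comp_id _)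
    exact RingHom.flat_algebraMap_iff.1 h
  let e : P →+* B := PerfectClosure.lift P0 p B (MvPolynomial.aeval (id : B → B) : P0 →ₐ[A] B).toRingHom
  have he : ∀ x, e (j x) = MvPolynomial.aeval (id : B → B) x := fun x => by
    have := (PerfectClosure.lift P0 p B).symm_apply_apply (MvPolynomial.aeval (id : B → B) : P0 →ₐ[A] B).toRingHom
    exact DFunLike.congr_fun this x
  let eₐ : P →ₐ[A] B := { e with commutes' := fun r => (he _).trans (AlgHom.commutes _ r) }
  have hsurj : Function.Surjective eₐ := fun b => ⟨j (MvPolynomial.X b), (he _).trans (MvPolynomial.aeval_X _ b)⟩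
  have hrad : (RingHom.ker eₐ).IsRadical := fun x ⟨n, hn⟩ => by
    haveI : IsReduced B := (isReduced_iff_pow_one_lt p (Fact.out : p.Prime).one_lt).2 fun a ha =>
      hB.1 (by simpa [zero_pow (Fact.out : p.Prime).ne_zero] using ha)
    rw [RingHom.mem_ker, map_pow] at hn
    exact IsReduced.eq_zero _ ⟨n, hn⟩
  have hle : ∀ s : Finset (RingHom.ker eₐ), (Ideal.span ((s.image Subtype.val : Finset P) : Set P)).radical ≤ RingHom.ker eₐ :=
    fun s => (Ideal.radical_mono (Ideal.span_le.2 fun x hx => by
      obtain ⟨y, -, rfl⟩ := Finset.mem_image.1 (Finset.mem_coe.1 hx); exact y.2)).trans hrad.radical.le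
  have hmono : ∀ s t : Finset (RingHom.ker eₐ), s ≤ t →
      (Ideal.span ((s.image Subtype.val : Finset P) : Set P)).radical ≤
        (Ideal.span ((t.image Subtype.val : Finset P) : Set P)).radical :=
    fun s t h => Ideal.radical_mono (Ideal.span_mono (Finset.coe_subset.2 (Finset.image_mono _ h)))
  let S : Colim (A := A) (Finset (RingHom.ker eₐ))
      (fun s => P ⧸ (Ideal.span ((s.image Subtype.val : Finset P) : Set P)).radical) B :=
    { u := fun s => (Ideal.Quotient.liftₐ _ eₐ fun x hx => hle s hx).toLinearMap
      v := fun s t h => (Ideal.Quotient.factorₐ A (hmono s t h)).toLinearMap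
      comp := fun s t h => LinearMap.ext fun x => by obtain ⟨x, rfl⟩ := Ideal.Quotient.mk_surjective x; rfl
      trans := fun s t w h h' => LinearMap.ext fun x => by obtain ⟨x, rfl⟩ := Ideal.Quotient.mk_surjective x; rfl
      surj := fun b => by
        obtain ⟨x, rfl⟩ := hsurj b
        exact ⟨∅, Ideal.Quotient.mk _ x, rfl⟩
      kill := fun s x hx => by
        obtain ⟨x, rfl⟩ := Ideal.Quotient.mk_surjective x
        refine ⟨s ∪ {⟨x, hx⟩}, Finset.subset_union_left, ?_⟩
        refine Ideal.Quotient.eq_zero_iff_mem.2 (Ideal.le_radical (Ideal.subset_span ?_))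
        exact Finset.mem_image.2 ⟨⟨x, hx⟩, Finset.mem_union_right _ (Finset.mem_singleton_self _), rfl⟩ }
  exact good_of_colim Q S fun s => good_quotient_radical p Q hA.2 hC (surjective_frobenius P p) _

end H1PerfTor
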