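import Groth.Agent.H1PerfTor.Basic
import Mathlib

/-! Tensor products and quotients of perfect rings. -/

set_option autoImplicit false

universe u

open TensorProduct

namespace H1PerfTor

variable (p : ℕ) [Fact p.Prime] {A B C : Type u} [CommRing A] [CommRing B] [CommRing C] [Algebra A B] [Algebra A C]

/-- The tensor product of perfect rings over a perfect ring is reduced. -/
theorem isReduced_tensor [CharP A p] (hA : Function.Surjective fun a : A => a ^ p)
    (hB : Function.Bijective fun a : B => a ^ p) (hC : Function.Bijective fun a : C => a ^ p) :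
    IsReduced (B ⊗[A] C) := by
  rcases subsingleton_or_nontrivial (B ⊗[A] C) with h | h
  · exact ⟨fun x _ => Subsingleton.elim _ _⟩
  haveI hBn : Nontrivial B := (Algebra.TensorProduct.includeLeftRingHom : B →+* B ⊗[A] C).domain_nontrivial
  haveI hCn : Nontrivial C := ((Algebra.TensorProduct.includeRight : C →ₐ[A] B ⊗[A] C) : C →+* B ⊗[A] C).domain_nontrivial
  have hp : ∀ (R : Type u) [CommRing R] [Algebra A R] [Nontrivial R], CharP R p := fun R _ _ _ =>
    (CharP.charP_iff_prime_eq_zero Fact.out).2 (by rw [← map_natCast (algebraMap A R), CharP.cast_eq_zero, map_zero])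
  haveI := hp B; haveI := hp C; haveI := hp (B ⊗[A] C)
  haveI : PerfectRing B p := ⟨hB⟩
  haveI : PerfectRing C p := ⟨hC⟩
  let σ := (frobeniusEquiv B p).symm
  let τ := (frobeniusEquiv C p).symm
  have hσ : ∀ r a, a ^ p = r → σ (algebraMap A B r) = algebraMap A B a := fun r a ha => by
    rw [← ha, map_pow]; exact frobeniusEquiv_symm_apply_frobenius B p _
  have hτ : ∀ r a, a ^ p = r → τ (algebraMap A C r) = algebraMap A C a := fun r a ha => by
    rw [← ha, map_pow]; exact frobeniusEquiv_symm_apply_frobenius C p _
  let f : B →+ C →+ B ⊗[A] C :=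
    { toFun := fun b =>
        { toFun := fun c => σ b ⊗ₜ[A] τ c
          map_zero' := by rw [map_zero, tmul_zero]
          map_add' := fun x y => by rw [map_add, tmul_add] }
      map_zero' := by ext c; simp
      map_add' := fun x y => by ext c; simp [add_tmul] }
  let g : B ⊗[A] C →+ B ⊗[A] C := TensorProduct.liftAddHom f fun r b c => by
    obtain ⟨a, ha⟩ := hA r
    show σ (r • b) ⊗ₜ[A] τ c = σ b ⊗ₜ[A] τ (r • c)
    rw [Algebra.smul_def, Algebra.smul_def, map_mul, map_mul, hσ r a ha, hτ r a ha, ← Algebra.smul_def,
      ← Algebra.smul_def, TensorProduct.smul_tmul]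
  have hg : ∀ x, g (x ^ p) = x := fun x => by
    induction x using TensorProduct.induction_on with
    | zero => rw [zero_pow (Nat.Prime.ne_zero Fact.out), map_zero]
    | tmul b c =>
      rw [Algebra.TensorProduct.tmul_pow]
      show σ (b ^ p) ⊗ₜ[A] τ (c ^ p) = _
      rw [show σ (b ^ p) = b from frobeniusEquiv_symm_apply_frobenius B p b,
        show τ (c ^ p) = c from frobeniusEquiv_symm_apply_frobenius C p c]
    | add x y hx hy => rw [add_pow_char, map_add, hx, hy]
  exact (isReduced_iff_pow_one_lt p (Fact.out : p.Prime).one_lt).2 fun x hx => by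
    rw [← hg x, hx, map_zero]

variable [CharP A p]

include p in
theorem charP_of_nontrivial (R : Type u) [CommRing R] [Algebra A R] [Nontrivial R] : CharP R p :=
  (CharP.charP_iff_prime_eq_zero Fact.out).2 (by rw [← map_natCast (algebraMap A R), CharP.cast_eq_zero, map_zero])

/-- Reduced with roots is perfect. -/
theorem bijective_pow {R : Type u} [CommRing R] [Algebra A R] [IsReduced R]
    (h : Function.Surjective fun a : R => a ^ p) : Function.Bijective fun a : R => a ^ p := by
  refine ⟨fun x y hxy => ?_, h⟩
  rcases subsingleton_or_nontrivial R with hs | hs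
  · exact Subsingleton.elim _ _
  haveI := charP_of_nontrivial p (A := A) R
  exact frobenius_inj R p hxy

end H1PerfTor
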